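import Cfsg.Agent.Lib.Char.OrderNine.Klein
import Cfsg.Agent.Lib.Char.OrderNine.SectionBlock

/-!
# The constituents of the lifts for an automiser of type four-group

Each axis gives two non-trivial irreducible characters. For one of the two axes both are in the
principal block, are rational, and their degrees are neighbours prime to three.
-/

set_option autoImplicit false
set_option linter.unusedSectionVars false
set_option linter.style.haveILetI false

namespace Cfsg.Agent.Char.OrderNine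

open Cfsg
open Cfsg.Agent.Solv.ThreeLocal (Pl)
open Cfsg.Agent.Small.Order459648 (oneChar)
open scoped ComplexConjugate

universe u

variable {G : Type u} [Group G] [Fintype G]

theorem sign_fix : ∀ a s : ZMod 3, a ≠ 0 → s * a = a → s = 1 := by decide

theorem smul_pat : ∀ (c : ZMod 3) (v : Pl), c ≠ 0 → Pat v (c • v) := by decide

theorem diag_pat : ∀ v : Pl, v.1 ≠ 0 → v.2 ≠ 0 → Pat (1, 1) v := by decide

theorem one_one_fst : ((1, 1) : Pl).1 ≠ 0 := by decide

theorem one_one_snd : ((1, 1) : Pl).2 ≠ 0 := by decide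

theorem fd_ne {v : Pl} (h : fd v ≠ 0) : v.1 ≠ 0 ∧ v.2 ≠ 0 := by
  constructor <;> intro e <;> exact h (by simp [fd, fw, fu, e])

theorem fd_diag : fd ((1, 1) : Pl) = 9 ∧ fd ((1, 2) : Pl) = 9 ∧ fd ((2, 1) : Pl) = 9 ∧
    fd ((2, 2) : Pl) = 9 ∧ fd ((1, 0) : Pl) = 0 ∧ fd ((2, 0) : Pl) = 0 ∧ fd ((0, 1) : Pl) = 0 ∧
    fd ((0, 2) : Pl) = 0 := by
  simp +decide [fd, fw, fu]
  norm_num

/-- A generalized character of norm three with trivial multiplicity one. -/
theorem exists_two {θ : G → ℂ} (h : IsGeneralizedCharacter G θ) (h3 : classInner θ θ = 3)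
    (h1 : classInner θ ((oneChar : IrrCharacter G) : G → ℂ) = 1) :
    ∃ (χ χ' : IrrCharacter G) (ε ε' : ℤ), (ε = 1 ∨ ε = -1) ∧ (ε' = 1 ∨ ε' = -1) ∧
      χ ≠ oneChar ∧ χ' ≠ oneChar ∧ χ ≠ χ' ∧
      θ = ((oneChar : IrrCharacter G) : G → ℂ) + (ε : ℂ) • (χ : G → ℂ) + (ε' : ℂ) • (χ' : G → ℂ) ∧
      classInner θ (χ : G → ℂ) = ε ∧ classInner θ (χ' : G → ℂ) = ε' ∧
      ∀ ψ : IrrCharacter G, ψ ≠ oneChar → ψ ≠ χ → ψ ≠ χ' → classInner θ (ψ : G → ℂ) = 0 := by
  classical
  obtain ⟨z, hz, hc⟩ := exists_int_coords h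
  rw [classInner_int_combination hz] at h3
  have hsum : ∑ χ, z χ * z χ = 3 := by exact_mod_cast h3
  have hone : z oneChar = 1 := by rw [hc] at h1; exact_mod_cast h1
  rw [← Finset.add_sum_erase _ _ (Finset.mem_univ (oneChar : IrrCharacter G)), hone] at hsum
  set R := ((Finset.univ : Finset (IrrCharacter G)).erase oneChar).filter fun χ => z χ ≠ 0 with hR
  have hsum' : ∑ χ ∈ R, z χ * z χ = 2 := by
    rw [hR]
    refine (Finset.sum_filter_of_ne (p := fun χ => z χ ≠ 0) fun χ _ hne hz0 =>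
      hne (by rw [hz0, mul_zero])).trans ?_
    linarith
  have hsq : ∀ χ ∈ R, z χ = 1 ∨ z χ = -1 := fun χ hχ => by
    have hle : z χ * z χ ≤ 2 := hsum' ▸
      Finset.single_le_sum (f := fun χ => z χ * z χ) (fun ψ _ => mul_self_nonneg _) hχ
    have h0 : z χ ≠ 0 := (Finset.mem_filter.mp hχ).2
    have : z χ ≤ 1 ∧ -1 ≤ z χ := by constructor <;> nlinarith
    omega
  have hcard : R.card = 2 := by
    rw [Finset.sum_congr rfl (g := fun _ => (1 : ℤ)) fun χ hχ => by
      rcases hsq χ hχ with e | e <;> simp [e], Finset.sum_const, nsmul_one] at hsum'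
    exact_mod_cast hsum'
  obtain ⟨χ, χ', hne, hRe⟩ := Finset.card_eq_two.mp hcard
  have hχ : χ ∈ R := hRe ▸ Finset.mem_insert_self _ _
  have hχ' : χ' ∈ R := hRe ▸ Finset.mem_insert_of_mem (Finset.mem_singleton_self _)
  have hzero : ∀ ψ : IrrCharacter G, ψ ≠ oneChar → ψ ≠ χ → ψ ≠ χ' → z ψ = 0 := fun ψ h1 h2 h3 => by
    by_contra h0
    have : ψ ∈ R := Finset.mem_filter.mpr ⟨Finset.mem_erase.mpr ⟨h1, Finset.mem_univ _⟩, h0⟩
    rw [hRe, Finset.mem_insert, Finset.mem_singleton] at this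
    exact this.elim h2 h3
  have h1χ : χ ≠ oneChar := (Finset.mem_erase.mp (Finset.mem_filter.mp hχ).1).1
  have h1χ' : χ' ≠ oneChar := (Finset.mem_erase.mp (Finset.mem_filter.mp hχ').1).1
  refine ⟨χ, χ', z χ, z χ', hsq χ hχ, hsq χ' hχ', h1χ, h1χ', hne, ?_, hc χ, hc χ', fun ψ a b c => by
    rw [hc, hzero ψ a b c, Int.cast_zero]⟩
  conv_lhs => rw [hz]
  rw [← Finset.sum_subset (Finset.subset_univ ({oneChar, χ, χ'} : Finset (IrrCharacter G)))
      fun ψ _ hψ => by
        simp only [Finset.mem_insert, Finset.mem_singleton, not_or] at hψ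
        rw [hzero ψ hψ.1 hψ.2.1 hψ.2.2, Int.cast_zero, zero_smul],
    Finset.sum_insert (by simp [h1χ.symm, h1χ'.symm]), Finset.sum_pair hne, hone, Int.cast_one,
    one_smul, add_assoc]

theorem inner_three (θ : G → ℂ) (a b c : G → ℂ) (ε ε' : ℤ) :
    classInner θ (a + (ε : ℂ) • b + (ε' : ℂ) • c) =
      classInner θ a + (ε : ℂ) * classInner θ b + (ε' : ℂ) * classInner θ c := by
  rw [classInner_add_right, classInner_add_right, classInner_smul_right, classInner_smul_right,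
    map_intCast, map_intCast]

/-- Two constituents with the coefficients of the diagonal lift. -/
structure GoodPair [Fact (Nat.Prime 3)] {P : Sylow 3 G} (K : KleinData P) (M : Ideal AlgInt)
    (χ χ' : IrrCharacter G) (ε ε' : ℤ) : Prop where
  sign : ε = 1 ∨ ε = -1
  sign' : ε' = 1 ∨ ε' = -1
  ne_one : χ ≠ oneChar
  ne_one' : χ' ≠ oneChar
  ne : χ ≠ χ'
  decomp : ∀ g : G, K.tau fu g = 1 + (ε : ℂ) * (χ : G → ℂ) g + (ε' : ℂ) * (χ' : G → ℂ) g
  coeff : classInner (K.tau fu) (χ : G → ℂ) = ε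
  coeff' : classInner (K.tau fu) (χ' : G → ℂ) = ε'
  others : ∀ ψ : IrrCharacter G, ψ ≠ oneChar → ψ ≠ χ → ψ ≠ χ' →
    classInner (K.tau fu) (ψ : G → ℂ) = 0
  diag : ∀ v : Pl, v.1 ≠ 0 → v.2 ≠ 0 → (χ : G → ℂ) (K.e v : G) = ε
  diag' : ∀ v : Pl, v.1 ≠ 0 → v.2 ≠ 0 → (χ' : G → ℂ) (K.e v : G) = ε'

namespace KleinData

variable [Fact (Nat.Prime 3)] {P : Sylow 3 G} (K : KleinData P)
include K

theorem order_dvd (v : Pl) : ∃ k, orderOf (K.e v : G) = 3 ^ k :=
  OrderNine.ppower (K.e v).2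

/-- The diagonals have centralizers with a normal complement of index nine. -/
theorem loc_diag {v : Pl} (h1 : v.1 ≠ 0) (h2 : v.2 ≠ 0) : Loc 3 9 (K.e v : G) := by
  classical
  have hp : Nat.Prime 3 := Nat.prime_three
  refine ⟨⟨2, by norm_num⟩, K.order_dvd v, ?_⟩
  set H := Subgroup.centralizer ({(K.e v : G)} : Set G) with hH
  have hPH : (P : Subgroup G) ≤ H := fun w hw =>
    Subgroup.mem_centralizer_singleton_iff.mpr ((K.le_centralizer hw) _ (K.e v).2).symm
  set Q : Sylow 3 H := P.subtype hPH with hQ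
  have hnp : HasNormalPComplement 3 H := by
    refine Fusion.hnpc_of_normalizer_le_centralizer Q fun k hk => ?_
    have hkN : (k : G) ∈ Subgroup.normalizer ((P : Subgroup G) : Set G) := by
      rw [Subgroup.mem_normalizer_iff]
      intro w
      constructor
      · intro hw
        exact (Subgroup.mem_normalizer_iff.mp hk ⟨w, hPH hw⟩).mp hw
      · intro hw
        have hwH : w ∈ H := by
          have := H.mul_mem (H.mul_mem (H.inv_mem k.2) (hPH hw)) k.2
          simpa [mul_assoc] using this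
        exact (Subgroup.mem_normalizer_iff.mp hk ⟨w, hwH⟩).mpr hw
    obtain ⟨s, t, -, -, hst⟩ := K.norm k hkN
    have e : (k : G) * (K.e v : G) * (k : G)⁻¹ = (K.e v : G) := by
      rw [Subgroup.mem_centralizer_singleton_iff.mp k.2, mul_inv_cancel_right]
    rw [hst v] at e
    have e' := Prod.ext_iff.mp (K.e.injective (Subtype.ext e))
    intro q hq
    refine Subtype.ext ?_
    obtain ⟨w, hw⟩ := K.e.surjective ⟨(q : G), hq⟩
    have h3 := hst w
    rw [sign_fix _ s h1 e'.1, sign_fix _ t h2 e'.2, one_mul, one_mul, hw, mul_inv_eq_iff_eq_mul] at h3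
    exact h3.symm
  set V := pResidual 3 H
  have hmem : ∀ x, ¬ 3 ∣ orderOf x ↔ x ∈ V := fun x => by
    rw [Fusion.hnpc_mem_iff hnp, Nat.coprime_comm, hp.coprime_iff_not_dvd]
  have hcop := Fusion.hnpc_iff.1 hnp
  refine ⟨V, inferInstance, Fusion.coprime_card_iff_not_dvd.1 hcop, ?_, hmem⟩
  have hc := (Fusion.isComplement'_of_coprime_card Q hcop).card_mul_card
  have h2' : Nat.card (Q : Subgroup H) = 9 := by
    rw [← K.card_P]
    exact Nat.card_congr (Subgroup.subgroupOfEquivOfLe hPH).toEquiv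
  rw [h2'] at hc
  exact Nat.eq_of_mul_eq_mul_left Nat.card_pos ((Subgroup.card_mul_index V).trans hc.symm)

open scoped _root_.Classical in
theorem inner_tauD_nonprincipal {M : Ideal AlgInt} (hM : IsPModular 3 M) {χ : IrrCharacter G}
    (hχ : χ ∉ principalBlock M G) : classInner (K.tau fd) (χ : G → ℂ) = 0 := by
  have hcl : IsClassFunction G fun g => K.tau fd g * conj ((χ : G → ℂ) g) := fun g k => by
    show K.tau fd _ * conj ((χ : G → ℂ) _) = _
    rw [K.tau_classFun fd_pat g k, isClassFunction_character (irr_isCharacter χ.2) g k]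
  rw [classInner, sum_eq P hcl, Finset.sum_eq_zero, mul_zero]
  intro y _
  obtain ⟨v, rfl⟩ := K.e.surjective y
  rw [Finset.sum_congr rfl fun (x : Subgroup.centralizer ({(K.e v : G)} : Set G)) hx => by
    rw [K.tau_section fd_pat v (cent_mul_comm x)
      (by rw [Subgroup.orderOf_coe]; exact (Finset.mem_filter.mp hx).2)], ← Finset.mul_sum, ← map_sum]
  by_cases h0 : fd v = 0
  · rw [h0]; simp
  · rw [nonprincipal_sum_zero_loc hM hχ (K.loc_diag (fd_ne h0).1 (fd_ne h0).2)]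
    simp

theorem char_diag {χ : IrrCharacter G} {v : Pl} (h1 : v.1 ≠ 0) (h2 : v.2 ≠ 0) :
    (χ : G → ℂ) (K.e v : G) = (χ : G → ℂ) (K.e (1, 1) : G) := by
  obtain ⟨k, hk⟩ := isConj_iff.mp ((K.isConj_iff_pat (1, 1) v).mpr (diag_pat v h1 h2))
  rw [← hk, isClassFunction_character (irr_isCharacter χ.2)]

theorem inner_tauD_principal {M : Ideal AlgInt} (hM : IsPModular 3 M) {χ : IrrCharacter G}
    (hχ : χ ∈ principalBlock M G) :
    classInner (K.tau fd) (χ : G → ℂ) = conj ((χ : G → ℂ) (K.e (1, 1) : G)) := by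
  have hcl : IsClassFunction G fun g => K.tau fd g * conj ((χ : G → ℂ) g) := fun g k => by
    show K.tau fd _ * conj ((χ : G → ℂ) _) = _
    rw [K.tau_classFun fd_pat g k, isClassFunction_character (irr_isCharacter χ.2) g k]
  rw [classInner, K.average hcl (φ := fun v => fd v * conj ((χ : G → ℂ) (K.e (1, 1) : G)))
    (by rw [fd_zero, zero_mul]) fun v x hc hx => ?_]
  · obtain ⟨a, b, c, d, a', b', c', d'⟩ := fd_diag
    simp only [avg, a, b, c, d, a', b', c', d']
    ring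
  · rw [K.tau_section fd_pat v hc hx]
    by_cases h0 : fd v = 0
    · rw [h0, zero_mul, zero_mul]
    · have h := principal_const_loc hM hχ (K.loc_diag (fd_ne h0).1 (fd_ne h0).2)
        ⟨x, Subgroup.mem_centralizer_singleton_iff.mpr hc.eq.symm⟩ (by rwa [Subgroup.orderOf_mk])
      rw [h, K.char_diag (fd_ne h0).1 (fd_ne h0).2]

theorem diag_value {M : Ideal AlgInt} (hM : IsPModular 3 M) {χ : IrrCharacter G} {d : ℤ}
    (hd : classInner (K.tau fd) (χ : G → ℂ) = d) (h0 : d ≠ 0) :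
    ∀ v : Pl, v.1 ≠ 0 → v.2 ≠ 0 → (χ : G → ℂ) (K.e v : G) = d := by
  intro v h1 h2
  by_cases hB : χ ∈ principalBlock M G
  · rw [K.inner_tauD_principal hM hB] at hd
    rw [K.char_diag h1 h2, ← Complex.conj_conj ((χ : G → ℂ) (K.e (1, 1) : G)), hd, map_intCast]
  · rw [K.inner_tauD_nonprincipal hM hB] at hd
    exact absurd (by exact_mod_cast hd.symm) h0

/-- The pairs of the two axes are disjoint. -/
theorem disjoint_pairs [IsSimpleGroup G] (hna : ¬ IsMulCommutative G) {χ χ' ψ ψ' : IrrCharacter G}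
    {ε ε' η η' : ℤ} (hε : ε = 1 ∨ ε = -1) (hε' : ε' = 1 ∨ ε' = -1) (hη : η = 1 ∨ η = -1)
    (hη' : η' = 1 ∨ η' = -1) (hχ1 : χ ≠ oneChar) (hχ'1 : χ' ≠ oneChar) (hψ1 : ψ ≠ oneChar)
    (hψ'1 : ψ' ≠ oneChar) (hne : χ ≠ χ') (hne' : ψ ≠ ψ')
    (hdec' : K.swap.tau fu = ((oneChar : IrrCharacter G) : G → ℂ) + (η : ℂ) • (ψ : G → ℂ) +
      (η' : ℂ) • (ψ' : G → ℂ))
    (hc : classInner (K.tau fu) (χ : G → ℂ) = ε) (hc' : classInner (K.tau fu) (χ' : G → ℂ) = ε')
    (ho : ∀ θ : IrrCharacter G, θ ≠ oneChar → θ ≠ χ → θ ≠ χ' → classInner (K.tau fu) (θ : G → ℂ) = 0)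
    (hrel : (1 : ℤ) + ε * charDegree (χ : G → ℂ) + ε' * charDegree (χ' : G → ℂ) = 0)
    (hrel' : (1 : ℤ) + η * charDegree (ψ : G → ℂ) + η' * charDegree (ψ' : G → ℂ) = 0) :
    ψ ≠ χ ∧ ψ ≠ χ' ∧ ψ' ≠ χ ∧ ψ' ≠ χ' := by
  classical
  have hdeg : ∀ θ : IrrCharacter G, θ ≠ oneChar → 2 ≤ (charDegree (θ : G → ℂ) : ℤ) := fun θ hθ => by
    exact_mod_cast Small.Order459648.one_lt_degree hna hθ
  have hover : η * (if ψ = χ then ε else if ψ = χ' then ε' else 0) +
      η' * (if ψ' = χ then ε else if ψ' = χ' then ε' else 0) = 0 := by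
    have h := K.inner_tauU_tauW
    have hco : ∀ θ : IrrCharacter G, θ ≠ oneChar → classInner (K.tau fu) (θ : G → ℂ) =
        ((if θ = χ then ε else if θ = χ' then ε' else 0 : ℤ) : ℂ) := fun θ hθ => by
      by_cases e1 : θ = χ
      · rw [if_pos e1, e1, hc]
      by_cases e2 : θ = χ'
      · rw [if_neg e1, if_pos e2, e2, hc']
      rw [if_neg e1, if_neg e2, ho θ hθ e1 e2, Int.cast_zero]
    rw [hdec', inner_three, K.inner_tauU_one, hco ψ hψ1, hco ψ' hψ'1] at h
    generalize (if ψ = χ then ε else if ψ = χ' then ε' else 0) = c1 at h ⊢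
    generalize (if ψ' = χ then ε else if ψ' = χ' then ε' else 0) = c2 at h ⊢
    have h2 : ((η * c1 + η' * c2 : ℤ) : ℂ) = 0 := by
      push_cast
      linear_combination h
    exact_mod_cast h2
  show ψ ≠ χ ∧ ψ ≠ χ' ∧ ψ' ≠ χ ∧ ψ' ≠ χ'
  have hx := hdeg χ hχ1
  have hx' := hdeg χ' hχ'1
  by_cases a1 : ψ = χ
  · exfalso
    subst a1
    rw [if_pos rfl, if_neg hne'.symm] at hover
    by_cases a2 : ψ' = χ'
    · subst a2
      rw [if_pos rfl] at hover
      rcases hε with rfl | rfl <;> rcases hε' with rfl | rfl <;> rcases hη with rfl | rfl <;>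
        rcases hη' with rfl | rfl <;> omega
    · rw [if_neg a2] at hover
      rcases hε with rfl | rfl <;> rcases hη with rfl | rfl <;> omega
  by_cases a2 : ψ = χ'
  · exfalso
    subst a2
    rw [if_neg a1, if_pos rfl] at hover
    by_cases a3 : ψ' = χ
    · subst a3
      rw [if_pos rfl] at hover
      rcases hε with rfl | rfl <;> rcases hε' with rfl | rfl <;> rcases hη with rfl | rfl <;>
        rcases hη' with rfl | rfl <;> omega
    · rw [if_neg a3, if_neg hne'.symm] at hover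
      rcases hε' with rfl | rfl <;> rcases hη with rfl | rfl <;> omega
  refine ⟨a1, a2, ?_, ?_⟩ <;> intro e
  · rw [if_neg a1, if_neg a2, if_pos e] at hover
    rcases hε with rfl | rfl <;> rcases hη' with rfl | rfl <;> omega
  · rw [if_neg a1, if_neg a2, if_neg (e ▸ hne.symm : ψ' ≠ χ), if_pos e] at hover
    rcases hε' with rfl | rfl <;> rcases hη' with rfl | rfl <;> omega

/-- One of the two axes carries a good pair. -/
theorem exists_goodPair [IsSimpleGroup G] (hna : ¬ IsMulCommutative G) {M : Ideal AlgInt}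
    (hM : IsPModular 3 M) :
    ∃ (K' : KleinData P) (χ χ' : IrrCharacter G) (ε ε' : ℤ), GoodPair K' M χ χ' ε ε' := by
  classical
  obtain ⟨χ, χ', ε, ε', hε, hε', hχ1, hχ'1, hne, hdec, hc, hc', ho⟩ :=
    exists_two K.isGen_tauU K.norm_tauU K.inner_tauU_one
  obtain ⟨ψ, ψ', η, η', hη, hη', hψ1, hψ'1, hne', hdec', hd, hd', ho'⟩ :=
    exists_two K.swap.isGen_tauU K.swap.norm_tauU K.swap.inner_tauU_one
  obtain ⟨z, hz, hzc⟩ := exists_int_coords K.isGen_tauD
  have hnorm : ∑ θ, z θ * z θ = 9 := by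
    have := K.norm_tauD
    rw [classInner_int_combination hz] at this
    exact_mod_cast this
  have hz1 : z oneChar = 1 := by
    have := K.inner_tauD_one
    rw [hzc] at this
    exact_mod_cast this
  have hzu : ε * z χ + ε' * z χ' = 2 := by
    have h := K.inner_tauD_tauU
    rw [hdec, inner_three, hzc, hzc, hzc, hz1] at h
    have h2 : (1 : ℤ) + ε * z χ + ε' * z χ' = 3 := by exact_mod_cast h
    linarith
  have hzw : η * z ψ + η' * z ψ' = 2 := by
    have h := K.swap.inner_tauD_tauU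
    rw [K.swap_tauD, hdec', inner_three, hzc, hzc, hzc, hz1] at h
    have h2 : (1 : ℤ) + η * z ψ + η' * z ψ' = 3 := by exact_mod_cast h
    linarith
  have hbound : ∀ a b : IrrCharacter G, a ≠ oneChar → b ≠ oneChar → a ≠ b →
      z a * z a + z b * z b ≤ 8 := fun a b ha hb hab => by
    have h := Finset.sum_le_sum_of_subset_of_nonneg
      (Finset.subset_univ ({oneChar, a, b} : Finset (IrrCharacter G)))
      (f := fun θ => z θ * z θ) fun θ _ _ => mul_self_nonneg _
    rw [hnorm, Finset.sum_insert (by simp [ha.symm, hb.symm]), Finset.sum_pair hab, hz1] at h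
    linarith
  have hgood : ∀ (a b : IrrCharacter G) (s t : ℤ), a ≠ oneChar → b ≠ oneChar → a ≠ b →
      (s = 1 ∨ s = -1) → (t = 1 ∨ t = -1) → s * z a + t * z b = 2 → z a ≠ 0 → z b ≠ 0 →
      z a = s ∧ z b = t := by
    intro a b s t ha hb hab hs ht hsum hza hzb
    have := hbound a b ha hb hab
    have h1 : z a ≤ 2 ∧ -2 ≤ z a ∧ z b ≤ 2 ∧ -2 ≤ z b := by
      refine ⟨?_, ?_, ?_, ?_⟩ <;> nlinarith
    rcases hs with rfl | rfl <;> rcases ht with rfl | rfl <;> omega
  by_cases hA : z χ ≠ 0 ∧ z χ' ≠ 0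
  · obtain ⟨e1, e2⟩ := hgood χ χ' ε ε' hχ1 hχ'1 hne hε hε' hzu hA.1 hA.2
    refine ⟨K, χ, χ', ε, ε', hε, hε', hχ1, hχ'1, hne, fun g => ?_, hc, hc', ho, ?_, ?_⟩
    · rw [hdec]; rfl
    · exact K.diag_value hM (by rw [hzc, e1]) (by rcases hε with e | e <;> omega)
    · exact K.diag_value hM (by rw [hzc, e2]) (by rcases hε' with e | e <;> omega)
  by_cases hB : z ψ ≠ 0 ∧ z ψ' ≠ 0
  · obtain ⟨e1, e2⟩ := hgood ψ ψ' η η' hψ1 hψ'1 hne' hη hη' hzw hB.1 hB.2
    refine ⟨K.swap, ψ, ψ', η, η', hη, hη', hψ1, hψ'1, hne', fun g => ?_, hd, hd', ho', ?_, ?_⟩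
    · rw [hdec']; rfl
    · exact K.swap.diag_value hM (by rw [K.swap_tauD, hzc, e1]) (by rcases hη with e | e <;> omega)
    · exact K.swap.diag_value hM (by rw [K.swap_tauD, hzc, e2]) (by rcases hη' with e | e <;> omega)
  exfalso
  have hdeg : ∀ θ : IrrCharacter G, θ ≠ oneChar → 2 ≤ (charDegree (θ : G → ℂ) : ℤ) := fun θ hθ => by
    exact_mod_cast Small.Order459648.one_lt_degree hna hθ
  have hone : ∀ θ : IrrCharacter G, (θ : G → ℂ) 1 = ((charDegree (θ : G → ℂ) : ℤ) : ℂ) := fun θ => by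
    rw [char_one_eq_deg (irr_isCharacter θ.2), Int.cast_natCast]; rfl
  have hrel : (1 : ℤ) + ε * charDegree (χ : G → ℂ) + ε' * charDegree (χ' : G → ℂ) = 0 := by
    have h := congrFun hdec 1
    rw [K.tau_one fu_pat fu_zero] at h
    simp only [Pi.add_apply, Pi.smul_apply, smul_eq_mul, hone χ, hone χ',
      show ((oneChar : IrrCharacter G) : G → ℂ) 1 = 1 from rfl] at h
    exact_mod_cast h.symm
  have hrel' : (1 : ℤ) + η * charDegree (ψ : G → ℂ) + η' * charDegree (ψ' : G → ℂ) = 0 := by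
    have h := congrFun hdec' 1
    rw [K.swap.tau_one fu_pat fu_zero] at h
    simp only [Pi.add_apply, Pi.smul_apply, smul_eq_mul, hone ψ, hone ψ',
      show ((oneChar : IrrCharacter G) : G → ℂ) 1 = 1 from rfl] at h
    exact_mod_cast h.symm
  obtain ⟨d1, d2, d3, d4⟩ := K.disjoint_pairs hna hε hε' hη hη' hχ1 hχ'1 hψ1 hψ'1 hne hne' hdec' hc hc'
    ho hrel hrel'
  set S : Finset (IrrCharacter G) := {oneChar, χ, χ', ψ, ψ'} with hS
  have hSsum : ∀ (F : IrrCharacter G → ℂ),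
      ∑ θ ∈ S, F θ = F oneChar + (F χ + (F χ' + (F ψ + F ψ'))) := fun F => by
    rw [hS, Finset.sum_insert (by simp [hχ1.symm, hχ'1.symm, hψ1.symm, hψ'1.symm]),
      Finset.sum_insert (by simp [hne, d1.symm, d3.symm]), Finset.sum_insert (by simp [d2.symm, d4.symm]),
      Finset.sum_pair hne']
  have hfour : z χ * z χ + z χ' * z χ' = 4 ∧ z ψ * z ψ + z ψ' * z ψ' = 4 := by
    rw [not_and_or, not_not, not_not] at hA hB
    constructor
    · rcases hA with e | e <;> rw [e] at hzu ⊢ <;> rcases hε with rfl | rfl <;>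
        rcases hε' with rfl | rfl <;> nlinarith
    · rcases hB with e | e <;> rw [e] at hzw ⊢ <;> rcases hη with rfl | rfl <;>
        rcases hη' with rfl | rfl <;> nlinarith
  have hrest : ∀ θ ∉ S, z θ = 0 := by
    intro θ hθ
    have h := Finset.sum_le_sum_of_subset_of_nonneg (Finset.subset_univ (insert θ S))
      (f := fun θ => z θ * z θ) fun θ _ _ => mul_self_nonneg _
    rw [hnorm, Finset.sum_insert hθ] at h
    have h5 : ∑ θ ∈ S, z θ * z θ = 9 := by
      have := hSsum fun θ => ((z θ * z θ : ℤ) : ℂ)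
      rw [← Int.cast_sum, hz1] at this
      have h6 : ∑ θ ∈ S, z θ * z θ = 1 * 1 + (z χ * z χ + (z χ' * z χ' + (z ψ * z ψ + z ψ' * z ψ'))) := by
        exact_mod_cast this
      linarith [hfour.1, hfour.2]
    rw [h5] at h
    exact mul_self_eq_zero.mp (le_antisymm (by linarith) (mul_self_nonneg _))
  have hval := congrFun hz 1
  rw [K.tau_one fd_pat fd_zero, Finset.sum_apply,
    ← Finset.sum_subset (Finset.subset_univ S) fun θ _ hθ => by rw [hrest θ hθ]; simp, hSsum] at hval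
  simp only [Pi.smul_apply, smul_eq_mul, hz1, hone χ, hone χ', hone ψ, hone ψ'] at hval
  have hfin : (0 : ℤ) = 1 + (z χ * charDegree (χ : G → ℂ) + (z χ' * charDegree (χ' : G → ℂ) +
      (z ψ * charDegree (ψ : G → ℂ) + z ψ' * charDegree (ψ' : G → ℂ)))) := by
    have h1 : ((oneChar : IrrCharacter G) : G → ℂ) 1 = 1 := rfl
    rw [h1] at hval
    push_cast at hval
    have : ((0 : ℤ) : ℂ) = ((1 + (z χ * charDegree (χ : G → ℂ) + (z χ' * charDegree (χ' : G → ℂ) +
        (z ψ * charDegree (ψ : G → ℂ) + z ψ' * charDegree (ψ' : G → ℂ)))) : ℤ) : ℂ) := by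
      push_cast
      linear_combination hval
    exact_mod_cast this
  rw [not_and_or, not_not, not_not] at hA hB
  have hev : (2 : ℤ) ∣ z χ ∧ (2 : ℤ) ∣ z χ' ∧ (2 : ℤ) ∣ z ψ ∧ (2 : ℤ) ∣ z ψ' := by
    have key : ∀ (u v s t : ℤ), (s = 1 ∨ s = -1) → (t = 1 ∨ t = -1) → s * u + t * v = 2 →
        (u = 0 ∨ v = 0) → (2 : ℤ) ∣ u ∧ (2 : ℤ) ∣ v := by
      intro u v s t hs ht h huv
      rcases hs with rfl | rfl <;> rcases ht with rfl | rfl <;> omega
    obtain ⟨u1, u2⟩ := key _ _ ε ε' hε hε' hzu hA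
    obtain ⟨w1, w2⟩ := key _ _ η η' hη hη' hzw hB
    exact ⟨u1, u2, w1, w2⟩
  obtain ⟨u1, u2, w1, w2⟩ := hev
  have hdvd := (u1.mul_right (charDegree (χ : G → ℂ) : ℤ)).add ((u2.mul_right (charDegree (χ' : G → ℂ) : ℤ)).add
    ((w1.mul_right (charDegree (ψ : G → ℂ) : ℤ)).add (w2.mul_right (charDegree (ψ' : G → ℂ) : ℤ))))
  omega

end KleinData

/-- The bijection given by a power prime to the order commutes with the lifts. -/
theorem KleinData.tau_pow [Fact (Nat.Prime 3)] {P : Sylow 3 G} (K : KleinData P) {k : ℕ}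
    (hk : k.Coprime (Nat.card G)) (g : G) : K.tau fu (g ^ k) = K.tau fu g := by
  obtain ⟨y, hy⟩ := FrobSylow.exists_conj_ppt (P := P) g
  obtain ⟨c, hc⟩ := isConj_iff.mp hy
  obtain ⟨v, rfl⟩ := K.e.surjective y
  obtain ⟨w, hw, hcm, -, hr⟩ := isPPart_ppt (p := 3) Nat.prime_three (c * g * c⁻¹)
  rw [ppt_conj Nat.prime_three, hc] at hw hcm
  have hk3 : (k : ZMod 3) ≠ 0 := by
    rw [Ne, ZMod.natCast_eq_zero_iff]
    intro hd
    have h9 : 3 ∣ Nat.card G := by
      refine (dvd_trans ?_ (Subgroup.card_subgroup_dvd_card (P : Subgroup G)))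
      rw [show Nat.card ↥(P : Subgroup G) = 9 from K.card_P]
      norm_num
    have := Nat.dvd_gcd hd h9
    rw [hk] at this
    norm_num at this
  have hpow : ∀ j : ℕ, (K.e v : G) ^ j = (K.e ((j : ZMod 3) • v) : G) := by
    intro j
    induction j with
    | zero => rw [pow_zero, Nat.cast_zero, zero_smul, K.e_zero, OneMemClass.coe_one]
    | succ j ih => rw [pow_succ, ih, Nat.cast_succ, add_smul, one_smul, K.e_add, Subgroup.coe_mul]
  have h1 : K.tau fu g = fu v := by
    rw [← K.tau_classFun fu_pat g c, ← hw, K.tau_section fu_pat v hcm hr]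
  have h2 : K.tau fu (g ^ k) = fu ((k : ZMod 3) • v) := by
    rw [← K.tau_classFun fu_pat (g ^ k) c, ← conj_pow, ← hw, (show Commute _ _ from hcm).mul_pow, hpow,
      K.tau_section fu_pat _ (hpow k ▸ (show Commute _ _ from hcm).pow_pow k k)
        fun hd => hr (hd.trans (orderOf_pow_dvd k))]
  rw [h1, h2, fu_pat (smul_pat _ v hk3)]

namespace GoodPair

variable [Fact (Nat.Prime 3)] {P : Sylow 3 G} {K : KleinData P} {M : Ideal AlgInt}
  {χ χ' : IrrCharacter G} {ε ε' : ℤ}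

theorem symm (E : GoodPair K M χ χ' ε ε') : GoodPair K M χ' χ ε' ε where
  sign := E.sign'
  sign' := E.sign
  ne_one := E.ne_one'
  ne_one' := E.ne_one
  ne := E.ne.symm
  decomp g := by rw [E.decomp g]; ring
  coeff := E.coeff'
  coeff' := E.coeff
  others ψ a b c := E.others ψ a c b
  diag := E.diag'
  diag' := E.diag

theorem deg_rel (E : GoodPair K M χ χ' ε ε') :
    (1 : ℤ) + ε * (charDegree (χ : G → ℂ) : ℤ) + ε' * (charDegree (χ' : G → ℂ) : ℤ) = 0 := by
  have h := E.decomp 1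
  rw [K.tau_one fu_pat fu_zero, char_one_eq_deg (irr_isCharacter χ.2),
    char_one_eq_deg (irr_isCharacter χ'.2)] at h
  exact_mod_cast h.symm

theorem deg_ne (E : GoodPair K M χ χ' ε ε') :
    charDegree (χ : G → ℂ) ≠ charDegree (χ' : G → ℂ) := fun e => by
  have h := E.deg_rel
  rw [e] at h
  rcases E.sign with hs | hs <;> rcases E.sign' with ht | ht <;> rw [hs, ht] at h <;> omega

theorem congr_three (E : GoodPair K M χ χ' ε ε') (hM : IsPModular 3 M) :
    (3 : ℤ) ∣ ε - (charDegree (χ : G → ℂ) : ℤ) := by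
  have h := char_congr_deg hM (irr_isCharacter χ.2) (g := (K.e (1, 1) : G)) (K.order_dvd _)
  rw [E.diag _ one_one_fst one_one_snd, char_one_eq_deg (irr_isCharacter χ.2),
    show (ε : ℂ) - (deg (χ : G → ℂ) : ℂ) = ((ε - (deg (χ : G → ℂ) : ℤ) : ℤ) : ℂ) by push_cast; rfl,
    memLI_intCast_iff hM] at h
  exact h

/-- The constituents take rational integer values. -/
theorem rational [IsSimpleGroup G] (hna : ¬ IsMulCommutative G) (E : GoodPair K M χ χ' ε ε') (g : G) :
    ∃ n : ℤ, (χ : G → ℂ) g = n := by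
  classical
  refine exists_int_of_fixed (irr_isCharacter χ.2) g fun k hk => ?_
  have hinner : classInner (K.tau fu) (galChar χ hk : G → ℂ) = classInner (K.tau fu) (χ : G → ℂ) := by
    rw [classInner, classInner]
    refine congrArg _ (Fintype.sum_equiv (powCoprime hk.symm) _ _ fun x => ?_)
    show K.tau fu x * conj ((χ : G → ℂ) (x ^ k)) = K.tau fu (x ^ k) * conj ((χ : G → ℂ) (x ^ k))
    rw [K.tau_pow hk]
  have hdeg := charDegree_galChar χ hk
  have hne1 : galChar χ hk ≠ oneChar := fun e => by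
    rw [e, Small.Order459648.charDegree_oneChar] at hdeg
    have := Small.Order459648.one_lt_degree hna E.ne_one
    omega
  have hne' : galChar χ hk ≠ χ' := fun e => E.deg_ne (by rw [← e, hdeg])
  have hself : galChar χ hk = χ := by
    by_contra hne
    rw [E.others _ hne1 hne hne', E.coeff] at hinner
    rcases E.sign with hs | hs <;> rw [hs] at hinner <;> simp at hinner
  exact congrFun (congrArg Subtype.val hself) g

theorem not_three_dvd (E : GoodPair K M χ χ' ε ε') (hM : IsPModular 3 M) :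
    ¬ 3 ∣ charDegree (χ : G → ℂ) := fun hd => by
  have h := E.congr_three hM
  rcases E.sign with hs | hs <;> rw [hs] at h <;> omega

/-- One of the degrees is `q`, the other a power of two, and `q² ∤ |G|`. -/
theorem exists_deg_q [IsSimpleGroup G] (hna : ¬ IsMulCommutative G) (hM : IsPModular 3 M)
    (E : GoodPair K M χ χ' ε ε') {q a b : ℕ} (hq : q.Prime) (hq2 : q ≠ 2) (hq3 : q ≠ 3)
    (hcard : Nat.card G = 9 * 2 ^ a * q ^ b) :
    ∃ (ψ ψ' : IrrCharacter G) (η η' : ℤ) (i : ℕ), GoodPair K M ψ ψ' η η' ∧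
      charDegree (ψ : G → ℂ) = q ∧ charDegree (ψ' : G → ℂ) = 2 ^ i ∧
      (Nat.card G).factorization q ≤ 1 := by
  haveI := Fact.mk hq
  have hx := Small.Order459648.one_lt_degree hna E.ne_one
  have hy := Small.Order459648.one_lt_degree hna E.ne_one'
  have hrel := E.deg_rel
  have hxy : charDegree (χ : G → ℂ) = charDegree (χ' : G → ℂ) + 1 ∨
      charDegree (χ' : G → ℂ) = charDegree (χ : G → ℂ) + 1 := by
    rcases E.sign with hs | hs <;> rcases E.sign' with ht | ht <;> rw [hs, ht] at hrel <;> omega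
  obtain ⟨i, hcases⟩ := neighbours hq hq2 hq3 hx hy hxy (hcard ▸ deg_dvd_card χ.2)
    (hcard ▸ deg_dvd_card χ'.2) (E.not_three_dvd hM) (E.symm.not_three_dvd hM)
  rcases hcases with ⟨e, e'⟩ | ⟨e, e'⟩
  · exact ⟨χ, χ', ε, ε', i, E, e, e', sylow_prime hna e fun g _ => E.rational hna g⟩
  · exact ⟨χ', χ, ε', ε, i, E.symm, e, e', sylow_prime hna e fun g _ => E.symm.rational hna g⟩

end GoodPair

end Cfsg.Agent.Char.OrderNine
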