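import Cfsg.Agent.Lib.Char.OrderNine.KleinBlock
import Cfsg.Agent.Lib.Solv.BrauerReynoldsBlock
import Cfsg.Agent.Lib.Small.StructureConstantTwo

/-!
# The groups with automiser a four-group
-/

set_option autoImplicit false
set_option linter.unusedSectionVars false
set_option linter.style.haveILetI false

namespace Cfsg.Agent.Char.OrderNine

open Cfsg
open Cfsg.Agent.Solv.ThreeLocal (Pl)
open Cfsg.Agent.Small.Order459648 (oneChar)
open scoped ComplexConjugate

universe u

variable {G : Type u} [Group G] [Fintype G]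

theorem pl_axis : ((1, 0) : Pl) ≠ 0 ∧ ((0, 1) : Pl) ≠ 0 ∧ Pat (1, 0) (2, 0) ∧ Pat (0, 1) (0, 2) := by
  decide

theorem fu_axis : fu ((1, 0) : Pl) = 3 := if_neg one_ne'

/-- The multiplicity of the trivial character on a subgroup of order three. -/
theorem exists_mult_three {φ : G → ℂ} (hφ : IsCharacter G φ) {g : G} (hg : g ^ 3 = 1) :
    ∃ m : ℕ, φ 1 + φ g + φ (g ^ 2) = 3 * (m : ℂ) := by
  obtain ⟨m, hm⟩ := Solv.ThreeLocal.multiplicity hφ (Solv.ThreeLocal.threeHom hg) 1
  refine ⟨m, ?_⟩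
  rw [Solv.ThreeLocal.sum_threeCyclic] at hm
  simpa [Solv.ThreeLocal.threeHom, Solv.ThreeLocal.C3, show (1 : ZMod 3).val = 1 from rfl,
    show (2 : ZMod 3).val = 2 from rfl, Nat.card_eq_fintype_card] using hm

namespace KleinData

variable [Fact (Nat.Prime 3)] {P : Sylow 3 G} (K : KleinData P)
include K

theorem e_ne_one {v : Pl} (hv : v ≠ 0) : (K.e v : G) ≠ 1 := fun e =>
  hv (K.e.injective (Subtype.ext (by rw [e, K.e_zero, OneMemClass.coe_one])))

theorem e_cube (v : Pl) : (K.e v : G) ^ 3 = 1 := by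
  rw [pow_succ, pow_two, ← Subgroup.coe_mul, ← Subgroup.coe_mul, ← K.e_add, ← K.e_add,
    ← neg_eq_add_self, neg_add_cancel, K.e_zero, OneMemClass.coe_one]

theorem e_sq (v : Pl) : (K.e v : G) ^ 2 = (K.e (v + v) : G) := by
  rw [pow_two, K.e_add, Subgroup.coe_mul]

theorem char_pat {φ : G → ℂ} (hφ : IsCharacter G φ) {v v' : Pl} (h : Pat v v') :
    φ (K.e v' : G) = φ (K.e v : G) := by
  obtain ⟨c, hc⟩ := isConj_iff.mp ((K.isConj_iff_pat v v').mpr h)
  rw [← hc, isClassFunction_character hφ]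

/-- The multiplicity of the trivial character on an axis. -/
theorem exists_mult_axis {φ : G → ℂ} (hφ : IsCharacter G φ) {v : Pl} (h : Pat v (v + v)) :
    ∃ m : ℕ, φ 1 + 2 * φ (K.e v : G) = 3 * (m : ℂ) := by
  obtain ⟨m, hm⟩ := exists_mult_three hφ (K.e_cube v)
  refine ⟨m, ?_⟩
  rw [K.e_sq, K.char_pat hφ h] at hm
  linear_combination hm

open scoped _root_.Classical in
/-- The multiplicity of the trivial character on `P`. -/
theorem exists_mult_all {φ : G → ℂ} (hφ : IsCharacter G φ) :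
    ∃ m : ℕ, ∑ v : Pl, φ (K.e v : G) = 9 * (m : ℂ) := by
  obtain ⟨m, hm⟩ := classInner_natCast (isCharacter_comp (P : Subgroup G).subtype hφ)
    (irr_isCharacter (isIrrCharacter_one (G := ↥(P : Subgroup G))))
  refine ⟨m, ?_⟩
  rw [classInner, show Nat.card ↥(P : Subgroup G) = 9 from K.card_P,
    inv_mul_eq_iff_eq_mul₀ (by norm_num)] at hm
  push_cast at hm
  rw [← hm]
  refine Fintype.sum_equiv K.e _ _ fun v => ?_
  simp

end KleinData

namespace GoodPair

variable [Fact (Nat.Prime 3)] {P : Sylow 3 G} {K : KleinData P} {M : Ideal AlgInt}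
  {χ χ' : IrrCharacter G} {ε ε' : ℤ}

/-- The degrees five and four cannot occur. -/
theorem not_five [IsSimpleGroup G] (hna : ¬ IsMulCommutative G) (E : GoodPair K M χ χ' ε ε')
    (hx : charDegree (χ : G → ℂ) = 5) (hx' : charDegree (χ' : G → ℂ) = 4) : False := by
  classical
  have hrel := E.deg_rel
  rw [hx, hx'] at hrel
  have hs : ε = -1 ∧ ε' = 1 := by
    rcases E.sign with hs | hs <;> rcases E.sign' with ht | ht <;> subst hs <;> subst ht <;> omega
  obtain ⟨rfl, rfl⟩ := hs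
  have h5 : (χ : G → ℂ) 1 = 5 := by
    rw [char_one_eq_deg (irr_isCharacter χ.2), show deg (χ : G → ℂ) = 5 from hx]; norm_num
  have h4 : (χ' : G → ℂ) 1 = 4 := by
    rw [char_one_eq_deg (irr_isCharacter χ'.2), show deg (χ' : G → ℂ) = 4 from hx']; norm_num
  obtain ⟨U, hU⟩ := E.symm.rational hna (K.e (1, 0) : G)
  obtain ⟨W, hW⟩ := E.symm.rational hna (K.e (0, 1) : G)
  obtain ⟨hu0, hw0, hpu, hpw⟩ := pl_axis
  have hbound : ∀ {v : Pl} {n : ℤ}, v ≠ 0 → (χ' : G → ℂ) (K.e v : G) = n → -4 < n ∧ n < 4 := by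
    intro v n hv hn
    have h := norm_lt hna E.ne_one' (K.e_ne_one hv)
    rw [hn, Complex.norm_intCast, hx'] at h
    exact abs_lt.mp (by exact_mod_cast h)
  have hUb := hbound hu0 hU
  have hWb := hbound hw0 hW
  have hχu : (χ : G → ℂ) (K.e (1, 0) : G) = ((U - 2 : ℤ) : ℂ) := by
    have h := E.decomp (K.e (1, 0) : G)
    rw [K.tau_coe fu_pat, fu_axis, hU] at h
    push_cast at h ⊢
    linear_combination h
  obtain ⟨m1, e1⟩ := K.exists_mult_axis (irr_isCharacter χ'.2) (v := (1, 0)) hpu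
  obtain ⟨m2, e2⟩ := K.exists_mult_axis (irr_isCharacter χ.2) (v := (1, 0)) hpu
  obtain ⟨m3, e3⟩ := K.exists_mult_axis (irr_isCharacter χ'.2) (v := (0, 1)) hpw
  obtain ⟨m4, e4⟩ := K.exists_mult_all (irr_isCharacter χ'.2)
  rw [h4, hU] at e1
  rw [h5, hχu] at e2
  rw [h4, hW] at e3
  simp only [Fintype.sum_prod_type, Solv.ThreeLocal.sum_zmodThree] at e4
  rw [show ((0, 0) : Pl) = 0 from rfl, K.e_zero, OneMemClass.coe_one, h4,
    K.char_pat (irr_isCharacter χ'.2) hpu, K.char_pat (irr_isCharacter χ'.2) hpw, hU, hW,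
    E.diag' (1, 1) one_ne' one_ne', E.diag' (1, 2) one_ne' two_ne', E.diag' (2, 1) two_ne' one_ne',
    E.diag' (2, 2) two_ne' two_ne'] at e4
  have i1 : 4 + 2 * U = 3 * (m1 : ℤ) := by exact_mod_cast e1
  have i2 : 5 + 2 * (U - 2) = 3 * (m2 : ℤ) := by exact_mod_cast e2
  have i3 : 4 + 2 * W = 3 * (m3 : ℤ) := by exact_mod_cast e3
  have i4 : 4 + W + W + (U + 1 + 1) + (U + 1 + 1) = 9 * (m4 : ℤ) := by exact_mod_cast e4
  omega

open scoped _root_.Classical in
/-- The degrees seven and eight cannot occur. -/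
theorem not_seven [IsSimpleGroup G] (hna : ¬ IsMulCommutative G) (E : GoodPair K M χ χ' ε ε')
    (hx : charDegree (χ : G → ℂ) = 7) (hx' : charDegree (χ' : G → ℂ) = 8) {a : ℕ}
    (hcard : Nat.card G = 9 * 2 ^ a * 7) : False := by
  haveI h7F : Fact (Nat.Prime 7) := ⟨by norm_num⟩
  have h7 : Nat.Prime 7 := h7F.out
  have hrel := E.deg_rel
  rw [hx, hx'] at hrel
  have hs : ε = 1 ∧ ε' = -1 := by
    rcases E.sign with hs | hs <;> rcases E.sign' with ht | ht <;> subst hs <;> subst ht <;> omega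
  obtain ⟨rfl, rfl⟩ := hs
  have hnd : ¬ 7 ∣ 9 * 2 ^ a := fun hd => by
    rcases h7.dvd_mul.mp hd with h | h
    · norm_num at h
    · have := (Nat.prime_dvd_prime_iff_eq h7 Nat.prime_two).mp (h7.dvd_of_dvd_pow h)
      omega
  have hfact : (Nat.card G).factorization 7 = 1 := by
    rw [hcard, Nat.factorization_mul (by positivity) (by norm_num), Finsupp.add_apply,
      Nat.factorization_eq_zero_of_not_dvd hnd, h7.factorization_self]
  obtain ⟨Q⟩ := (Sylow.nonempty : Nonempty (Sylow 7 G))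
  have hQ : Nat.card Q = 7 := by rw [Q.card_eq_multiplicity, hfact, pow_one]
  obtain ⟨⟨x, hxQ⟩, hxo⟩ := exists_prime_orderOf_dvd_card' (G := ↥(Q : Subgroup G)) 7 (by rw [hQ])
  rw [Subgroup.orderOf_mk] at hxo
  have hzx : Subgroup.zpowers x = (Q : Subgroup G) :=
    Subgroup.eq_of_le_of_card_ge (Subgroup.zpowers_le.mpr hxQ)
      (by rw [Nat.card_zpowers, hxo, show Nat.card ↥(Q : Subgroup G) = 7 from hQ])
  have hpow : IsPGroup 7 (Subgroup.centralizer ({x} : Set G)) := by
    rw [IsPGroup.iff_card]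
    refine ⟨_, Nat.eq_prime_pow_of_unique_prime_dvd Nat.card_pos.ne' fun {s} hs hsd => ?_⟩
    haveI := Fact.mk hs
    obtain ⟨⟨c, hcC⟩, hc⟩ := exists_prime_orderOf_dvd_card' s hsd
    rw [Subgroup.orderOf_mk] at hc
    by_contra hs7
    have h1 := no_commute_of_full hna hx hfact.le hxo
      (show Commute x c from (Subgroup.mem_centralizer_singleton_iff.mp hcC).symm)
      (by rw [hc]; exact (Nat.coprime_primes hs h7).mpr hs7)
    rw [h1, orderOf_one] at hc
    exact hs.ne_one hc.symm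
  have hC : Subgroup.centralizer ({x} : Set G) = Subgroup.zpowers x := by
    rw [hzx]
    refine Q.is_maximal' hpow fun y hy => ?_
    rw [← hzx] at hy
    obtain ⟨i, rfl⟩ := Subgroup.mem_zpowers_iff.mp hy
    exact Subgroup.mem_centralizer_singleton_iff.mpr ((Commute.zpow_self x i).eq)
  have hreg : ¬ 3 ∣ orderOf x := by rw [hxo]; norm_num
  have hχx : (χ : G → ℂ) x = 0 :=
    BrauerTuan.vanish_of_full_part χ (by
      rw [hfact, show deg (χ : G → ℂ) = 7 from hx, h7.factorization_self]) (by rw [hxo])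
  have hχ'x : (χ' : G → ℂ) x = 1 := by
    have h := E.decomp x
    rw [K.tau_regular fu_pat fu_zero hreg, hχx] at h
    push_cast at h
    linear_combination h
  -- the automiser of a Sylow subgroup for seven has order two
  obtain ⟨e, t, he2, ht, het, -, he⟩ :=
    BrauerTuan.exists_index (Small.Order459648.perfect hna) Q hQ
  have hFS := frobSylow_of_prime (P := Q) hQ
  rw [he] at hFS
  have hCQ : Subgroup.centralizer ((Q : Subgroup G) : Set G) = (Q : Subgroup G) := by
    rw [← hzx, centralizer_zpowers_eq, hC]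
  have hN := hFS.card_centralizer_inf
  rw [hCQ, show Nat.card ↥(Q : Subgroup G) = 7 from hQ] at hN
  have hidx := Subgroup.index_mul_card (Subgroup.normalizer ((Q : Subgroup G) : Set G))
  rw [← hN, hcard, ← mul_assoc] at hidx
  have hmul : (Subgroup.normalizer ((Q : Subgroup G) : Set G)).index * e = 9 * 2 ^ a :=
    Nat.eq_of_mul_eq_mul_right (by norm_num) hidx
  have hn1 : (Subgroup.normalizer ((Q : Subgroup G) : Set G)).index ≡ 1 [MOD 7] :=
    Sylow.card_eq_index_normalizer Q ▸ card_sylow_modEq_one 7 G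
  have hres : 9 * 2 ^ a % 7 = 1 ∨ 9 * 2 ^ a % 7 = 2 ∨ 9 * 2 ^ a % 7 = 4 := by
    have : a % 3 = 0 ∨ a % 3 = 1 ∨ a % 3 = 2 := by omega
    have h2 : 2 ^ a % 7 = 2 ^ (a % 3) % 7 := by
      conv_lhs => rw [← Nat.div_add_mod a 3, pow_add, pow_mul, Nat.mul_mod, Nat.pow_mod]
      norm_num
    rw [Nat.mul_mod, h2]
    rcases this with h | h | h <;> rw [h] <;> norm_num
  have he' : e = 2 := by
    have hemod : 9 * 2 ^ a % 7 = e % 7 := by
      rw [← hmul]
      exact (hn1.mul_right e).trans (by rw [one_mul])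
    have hle : e ≤ 6 := by
      have : e ≤ e * t := Nat.le_mul_of_pos_right e ht
      omega
    have hdiv : e ∣ 6 := ⟨t, by omega⟩
    interval_cases e <;> omega
  subst he'
  obtain ⟨N, hN7⟩ := exists_pModular h7
  obtain ⟨X, Y, b, δ, hB, h1X, -, -⟩ := Solv.BReyn.exists_principal_one_mem hN7 hQ he he2 ht het
  have hval : ∀ θ : IrrCharacter G, (θ : G → ℂ) 1 = (charDegree (θ : G → ℂ) : ℂ) :=
    fun θ => char_one_eq_deg (irr_isCharacter θ.2)
  have hin : ∀ θ : IrrCharacter G, (θ : G → ℂ) x ≠ 0 → θ ∈ X ∨ θ ∈ Y := fun θ hθ =>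
    (hB.mem_iff θ).mp (by
      by_contra hn
      exact hθ (Small.StructureConstantTwo.vanish_outside hN7 hxo hC hn))
  have hχ'X : χ' ∈ X := by
    refine (hin χ' (by rw [hχ'x]; exact one_ne_zero)).resolve_right fun hY => ?_
    have h := Int.modEq_iff_dvd.mp (hB.congrY χ' hY)
    rw [hx'] at h
    rcases hB.sign with hd | hd <;> rw [hd] at h <;> omega
  have hXeq : X = {oneChar, χ'} := by
    refine (Finset.eq_of_subset_of_card_le ?_ ?_).symm
    · intro θ hθ
      rcases Finset.mem_insert.mp hθ with rfl | hθ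
      · exact h1X
      · rwa [Finset.mem_singleton.mp hθ]
    · rw [hB.cardX, Finset.card_pair E.ne_one'.symm]
  -- the other axis
  obtain ⟨ψ, ψ', η, η', hη, hη', hψ1, hψ'1, hne', hdec', -, -, -⟩ :=
    exists_two K.swap.isGen_tauU K.swap.norm_tauU K.swap.inner_tauU_one
  have hone : ((oneChar : IrrCharacter G) : G → ℂ) 1 = 1 := rfl
  have hrel' : (1 : ℤ) + η * charDegree (ψ : G → ℂ) + η' * charDegree (ψ' : G → ℂ) = 0 := by
    have h := congrFun hdec' 1
    rw [K.swap.tau_one fu_pat fu_zero] at h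
    simp only [Pi.add_apply, Pi.smul_apply, smul_eq_mul, hval ψ, hval ψ', hone] at h
    exact_mod_cast h.symm
  obtain ⟨-, d2, -, d4⟩ := K.disjoint_pairs hna (ψ := ψ) (ψ' := ψ') E.sign E.sign' hη hη' E.ne_one
    E.ne_one' hψ1 hψ'1 E.ne hne' hdec' E.coeff E.coeff' E.others E.deg_rel hrel'
  have hsum : (1 : ℂ) + (η : ℂ) * (ψ : G → ℂ) x + (η' : ℂ) * (ψ' : G → ℂ) x = 0 := by
    have h := congrFun hdec' x
    rw [K.swap.tau_regular fu_pat fu_zero hreg] at h
    simp only [Pi.add_apply, Pi.smul_apply, smul_eq_mul,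
      show ((oneChar : IrrCharacter G) : G → ℂ) x = 1 from rfl] at h
    exact h.symm
  have hY : ∀ θ : IrrCharacter G, θ ≠ oneChar → θ ≠ χ' → (θ : G → ℂ) x ≠ 0 → θ ∈ Y := fun θ a b c => by
    refine (hin θ c).resolve_left fun hX => ?_
    rw [hXeq, Finset.mem_insert, Finset.mem_singleton] at hX
    exact hX.elim a b
  have hsingle : ∀ (θ : IrrCharacter G) (s : ℤ), θ ≠ oneChar → θ ≠ χ' → (s = 1 ∨ s = -1) →
      (θ : G → ℂ) x = s → False := by
    intro θ s a b hs hθ
    have hm : θ ∈ Y := hY θ a b (by rw [hθ]; rcases hs with e | e <;> simp [e])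
    have h := char_congr_deg hN7 (irr_isCharacter θ.2) (g := x) ⟨1, by rw [hxo, pow_one]⟩
    rw [hθ, hval, show (s : ℂ) - (charDegree (θ : G → ℂ) : ℂ) =
      ((s - (charDegree (θ : G → ℂ) : ℤ) : ℤ) : ℂ) by push_cast; rfl, memLI_intCast_iff hN7] at h
    have h2 := Int.modEq_iff_dvd.mp (hB.congrY θ hm)
    rcases hB.sign with hd | hd <;> rw [hd] at h2 <;> rcases hs with e | e <;> rw [e] at h <;> omega
  by_cases hp : (ψ : G → ℂ) x = 0
  · rw [hp, mul_zero, add_zero] at hsum
    refine hsingle ψ' (-η') hψ'1 d4 (by omega) ?_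
    have h2 : (η' : ℂ) * η' = 1 := by rcases hη' with e | e <;> simp [e]
    push_cast
    linear_combination (η' : ℂ) * hsum - (ψ' : G → ℂ) x * h2
  by_cases hp' : (ψ' : G → ℂ) x = 0
  · rw [hp', mul_zero, add_zero] at hsum
    refine hsingle ψ (-η) hψ1 d2 (by omega) ?_
    have h2 : (η : ℂ) * η = 1 := by rcases hη with e | e <;> simp [e]
    push_cast
    linear_combination (η : ℂ) * hsum - (ψ : G → ℂ) x * h2
  have h1 := hB.regY ψ (hY ψ hψ1 d2 hp) ψ' (hY ψ' hψ'1 d4 hp') 1
    (by rw [orderOf_one]; exact h7.not_dvd_one)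
  rw [hval, hval] at h1
  have h2 : charDegree (ψ : G → ℂ) = charDegree (ψ' : G → ℂ) := by exact_mod_cast h1
  rw [h2] at hrel'
  have := Small.Order459648.one_lt_degree hna hψ'1
  rcases hη with e | e <;> rcases hη' with e' | e' <;> rw [e, e'] at hrel' <;> omega

end GoodPair

/-- The groups with a Sylow three-subgroup of order nine whose automiser is a four-group. -/
theorem klein_main [IsSimpleGroup G] (hna : ¬ IsMulCommutative G) [Fact (Nat.Prime 3)] {q a b : ℕ}
    (hq : q.Prime) (hq2 : q ≠ 2) (hq3 : q ≠ 3) (hcard : Nat.card G = 9 * 2 ^ a * q ^ b)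
    {P : Sylow 3 G} (K : KleinData P) : Concl G := by
  obtain ⟨M, hM⟩ := exists_pModular Nat.prime_three
  obtain ⟨K', χ, χ', ε, ε', E⟩ := K.exists_goodPair hna hM
  obtain ⟨ψ, ψ', η, η', i, E', hd, hd', hfact⟩ := E.exists_deg_q hna hM hq hq2 hq3 hcard
  obtain ⟨-, hb⟩ := one_le_exponent hna hq hcard
  have hbq : b = 1 := by
    rw [hcard, Nat.factorization_mul (by positivity) (pow_ne_zero _ hq.ne_zero), Finsupp.add_apply,
      hq.factorization_pow, Finsupp.single_eq_same] at hfact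
    omega
  rw [hbq, pow_one] at hcard
  by_cases h10 : 10 < q
  · exact Or.inr (big_case hna hq h10 hcard)
  exfalso
  have hrel := E'.deg_rel
  rw [hd, hd'] at hrel
  have h3 : ¬ 3 ∣ 2 ^ i := fun h => by
    have := Nat.prime_three.dvd_of_dvd_pow h
    omega
  have hcases : (q = 5 ∧ 2 ^ i = 4) ∨ (q = 7 ∧ 2 ^ i = 8) := by
    generalize 2 ^ i = T at hrel h3 ⊢
    have := hq.two_le
    interval_cases q <;> first
      | omega
      | (rcases E'.sign with hs | hs <;> rcases E'.sign' with ht | ht <;> rw [hs, ht] at hrel <;> omega)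
      | (exact absurd hq (by norm_num))
  rcases hcases with ⟨rfl, hi⟩ | ⟨rfl, hi⟩
  · exact E'.not_five hna hd (hd'.trans hi)
  · exact E'.not_seven hna hd (hd'.trans hi) hcard

end Cfsg.Agent.Char.OrderNine
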