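import Cfsg.Agent.Lib.Solv.ThreeLocal.Plane

/-!
# Linear maps of the plane over the field of three elements, by computation
-/

set_option autoImplicit false
set_option synthInstance.maxSize 2000

namespace Cfsg.Agent.Char.OrderNine

open Cfsg.Agent.Solv.ThreeLocal (Pl)

/-- The linear map with given values on the basis. -/
def app (M : Pl × Pl) (v : Pl) : Pl :=
  (v.1 * M.1.1 + v.2 * M.2.1, v.1 * M.1.2 + v.2 * M.2.2)

/-- Reflection in the first axis. -/
def flipSnd (v : Pl) : Pl := (v.1, -v.2)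

theorem eq_app {f : Pl → Pl} (hadd : ∀ v w, f (v + w) = f v + f w) (v : Pl) :
    f v = app (f (1, 0), f (0, 1)) v := by
  have h0 : f 0 = 0 := add_left_cancel (a := f 0) (by rw [← hadd, add_zero, add_zero])
  have key : ∀ v : Pl, v = 0 ∨ v = (1, 0) ∨ v = (1, 0) + (1, 0) ∨ v = (0, 1) ∨ v = (0, 1) + (0, 1) ∨
      v = (1, 0) + (0, 1) ∨ v = (1, 0) + (1, 0) + (0, 1) ∨ v = (1, 0) + ((0, 1) + (0, 1)) ∨
      v = (1, 0) + (1, 0) + ((0, 1) + (0, 1)) := by
    intro v
    have h : v ∈ ([0, (1, 0), (1, 0) + (1, 0), (0, 1), (0, 1) + (0, 1), (1, 0) + (0, 1),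
        (1, 0) + (1, 0) + (0, 1), (1, 0) + ((0, 1) + (0, 1)),
        (1, 0) + (1, 0) + ((0, 1) + (0, 1))] : List Pl) := by revert v; decide
    simpa only [List.mem_cons, List.not_mem_nil, or_false] using h
  have val : ∀ p q : Pl, app (p, q) 0 = 0 ∧ app (p, q) (1, 0) = p ∧ app (p, q) (0, 1) = q := by
    intro p q
    refine ⟨?_, ?_, ?_⟩ <;> simp [app]
  have hsum : ∀ (M : Pl × Pl) (x y : Pl), app M (x + y) = app M x + app M y := by
    intro M x y
    ext <;> simp [app] <;> ring
  obtain ⟨a, b, c⟩ := val (f (1, 0)) (f (0, 1))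
  rcases key v with e | e | e | e | e | e | e | e | e <;> rw [e] <;> simp only [hadd, hsum, h0, a, b, c]

theorem app_add (M : Pl × Pl) (x y : Pl) : app M (x + y) = app M x + app M y := by
  ext <;> simp [app] <;> ring

theorem app_comp_app (M : Pl × Pl) (p q v : Pl) :
    app M (app (p, q) v) = app (app M p, app M q) v := by
  ext <;> simp [app] <;> ring

theorem app_flipSnd (u w v : Pl) : app (u, -w) v = app (u, w) (flipSnd v) := by
  ext <;> simp [app, flipSnd]

set_option maxRecDepth 8000 in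
set_option maxHeartbeats 1000000 in
/-- The exponent of the group of the plane. -/
theorem iterate_exponent : ∀ M : Pl × Pl, (∀ v, app M v = 0 → v = 0) → ∀ v, (app M)^[24] v = v := by
  decide +kernel

set_option maxRecDepth 8000 in
set_option maxHeartbeats 1000000 in
/-- An element of two-power order which is not an involution has at most two orbits. -/
theorem two_orbits : ∀ M : Pl × Pl, (∀ v, (app M)^[8] v = v) → (¬ ∀ v, app M (app M v) = v) →
    ∃ v₀ : Pl, v₀ ≠ 0 ∧ ∀ v, v ≠ 0 → ∃ k : Fin 8, (app M)^[k.val] (1, 0) = v ∨ (app M)^[k.val] v₀ = v := by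
  decide +kernel

/-- An involution is a scalar or has two eigenlines. -/
theorem involution_cases : ∀ M : Pl × Pl, (∀ v, app M (app M v) = v) →
    (∀ v, app M v = v) ∨ (∀ v, app M v = -v) ∨
      ∃ u w : Pl, app M u = u ∧ app M w = -w ∧ ∀ v, app (u, w) v = 0 → v = 0 := by
  decide +kernel

/-- The involutions commuting with a reflection are sign changes. -/
theorem commute_flipSnd : ∀ S : Pl × Pl, (∀ v, app S (flipSnd v) = flipSnd (app S v)) →
    (∀ v, app S (app S v) = v) →
    ∃ s t : ZMod 3, s ≠ 0 ∧ t ≠ 0 ∧ ∀ v, app S v = (s * v.1, t * v.2) := by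
  decide +kernel

theorem sign_two : ∀ s : ZMod 3, s ≠ 0 → s = 1 ∨ s = 2 := by decide

theorem sign_products : ∀ t₁ s t : ZMod 3, t₁ ≠ 0 → s ≠ 0 → t ≠ 0 → ∃ i j : Bool, ∀ v : Pl,
    (s * v.1, t * v.2) = (if i then fun v : Pl => ((2 : ZMod 3) * v.1, t₁ * v.2) else id)
      ((if j then flipSnd else id) v) := by
  decide +kernel

end Cfsg.Agent.Char.OrderNine
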