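import Cfsg.Agent.Lib.Char.OrderNine.KleinEnd
import Cfsg.Agent.Lib.Char.OrderNine.PlaneMaps

/-!
# The automiser of a Sylow three-subgroup of order nine with at least three classes
-/

set_option autoImplicit false
set_option linter.unusedSectionVars false
set_option linter.style.haveILetI false

namespace Cfsg.Agent.Char.OrderNine

open Cfsg
open Cfsg.Agent.Solv.ThreeLocal (Pl)

universe u

variable {G : Type u} [Group G] [Fintype G]

open scoped IsMulCommutative in
/-- A perfect group has no non-trivial element of an abelian Sylow subgroup fixed by its normalizer. -/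
theorem no_fixed [IsSimpleGroup G] (hna : ¬ IsMulCommutative G) {p : ℕ} [Fact p.Prime] (P : Sylow p G)
    (hab : IsMulCommutative P) {y : G} (hy : y ∈ (P : Subgroup G)) (hy1 : y ≠ 1)
    (hfix : ∀ n ∈ Subgroup.normalizer ((P : Subgroup G) : Set G), n * y * n⁻¹ = y) : False := by
  haveI : IsMulCommutative ↥(P : Subgroup G) := hab
  have hp : p.Prime := Fact.out
  have key : ∀ (k : ℕ) (g₀ : G), g₀⁻¹ * y ^ k * g₀ ∈ (P : Subgroup G) → g₀⁻¹ * y ^ k * g₀ = y ^ k := by
    intro k g₀ hk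
    obtain ⟨n, hn, he⟩ := OrderNine.fusion hab (pow_mem hy k) hk (isConj_iff.mpr ⟨g₀⁻¹, by rw [inv_inv]⟩)
    rw [← he, ← conj_pow, hfix n hn]
  have h1 : MonoidHom.transfer (MonoidHom.id ↥(P : Subgroup G)) y = 1 :=
    Solv.BReyn.hom_eq_one (Small.Order459648.perfect hna) _ y
  rw [MonoidHom.transfer_eq_pow _ y key, MonoidHom.id_apply] at h1
  have hd : orderOf y ∣ (P : Subgroup G).index := orderOf_dvd_of_pow_eq_one (congrArg Subtype.val h1)
  obtain ⟨k, hk⟩ := OrderNine.ppower (P := P) hy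
  rcases k with _ | k
  · exact hy1 (orderOf_eq_one_iff.mp (by rw [hk, pow_zero]))
  · exact P.not_dvd_index ((hk ▸ dvd_pow_self p (Nat.succ_ne_zero k)).trans hd)

/-- The automiser of an abelian Sylow subgroup has order prime to `p`. -/
theorem exists_exponent {p : ℕ} [Fact p.Prime] (P : Sylow p G) (hab : IsMulCommutative P) {n : G}
    (hn : n ∈ Subgroup.normalizer ((P : Subgroup G) : Set G)) :
    ∃ j : ℕ, ¬ p ∣ j ∧ ∀ y ∈ (P : Subgroup G), n ^ j * y * (n ^ j)⁻¹ = y := by
  set N := Subgroup.normalizer ((P : Subgroup G) : Set G) with hN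
  set C := Subgroup.centralizer ((P : Subgroup G) : Set G) with hC
  haveI := hab
  have hPC : (P : Subgroup G) ≤ C := Subgroup.le_centralizer _
  haveI : (C.subgroupOf N).Normal := by
    constructor
    intro c hc g
    rw [Subgroup.mem_subgroupOf] at hc ⊢
    rw [hC, Subgroup.mem_centralizer_iff]
    intro y hy
    have hy' : (g : G)⁻¹ * y * (g : G) ∈ (P : Subgroup G) := by
      have := (Subgroup.mem_normalizer_iff.mp g.2 ((g : G)⁻¹ * y * g)).mpr
        (by rw [show (g : G) * ((g : G)⁻¹ * y * g) * (g : G)⁻¹ = y by group]; exact hy)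
      exact this
    have h := hc _ hy'
    show y * ((g : G) * c * (g : G)⁻¹) = (g : G) * c * (g : G)⁻¹ * y
    calc y * ((g : G) * c * (g : G)⁻¹) = (g : G) * ((g : G)⁻¹ * y * g * c) * (g : G)⁻¹ := by group
      _ = (g : G) * (c * ((g : G)⁻¹ * y * g)) * (g : G)⁻¹ := by rw [h]
      _ = _ := by group
  refine ⟨C.relIndex N, fun hd => ?_, ?_⟩
  · have h1 : C.relIndex N ∣ C.index :=
      Dvd.intro _ (Subgroup.relIndex_mul_index (Subgroup.centralizer_le_normalizer _))
    exact P.not_dvd_index ((hd.trans h1).trans (Subgroup.index_dvd_of_le hPC))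
  · intro y hy
    have h := (C.subgroupOf N).pow_index_mem ⟨n, hn⟩
    rw [Subgroup.mem_subgroupOf, SubgroupClass.coe_pow] at h
    have h2 : n ^ C.relIndex N ∈ C := h
    rw [← h2 y hy, mul_inv_cancel_right]

/-- Coordinates of an elementary abelian group of order nine. -/
theorem exists_coords (P : Sylow 3 G) (hP : Nat.card P = 9) (hab : IsMulCommutative P)
    (hexp : ∀ y ∈ (P : Subgroup G), y ^ 3 = 1) :
    ∃ e : Pl ≃ ↥(P : Subgroup G), ∀ v v', e (v + v') = e v * e v' := by
  classical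
  haveI : IsMulCommutative ↥(P : Subgroup G) := hab
  have hc : ∀ x : ↥(P : Subgroup G), x ^ 3 = 1 := fun x => Subtype.ext (hexp x x.2)
  have hcomm : ∀ a b : ↥(P : Subgroup G), a * b = b * a := fun a b => hab.is_comm.comm a b
  have hP' : Nat.card ↥(P : Subgroup G) = 9 := hP
  obtain ⟨u, hu⟩ : ∃ u : ↥(P : Subgroup G), u ≠ 1 := by
    haveI : Nontrivial ↥(P : Subgroup G) := Finite.one_lt_card_iff_nontrivial.mp (by omega)
    exact exists_ne 1
  obtain ⟨w, hw⟩ : ∃ w, w ∉ Subgroup.zpowers u := by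
    by_contra h
    push Not at h
    have := Subgroup.card_le_of_le (show (⊤ : Subgroup ↥(P : Subgroup G)) ≤ Subgroup.zpowers u from
      fun x _ => h x)
    rw [Subgroup.card_top, hP', Nat.card_zpowers, orderOf_eq_prime (p := 3) (hp := ⟨Nat.prime_three⟩) (hc u) hu] at this
    omega
  let f : Pl → ↥(P : Subgroup G) := fun v => u ^ v.1.val * w ^ v.2.val
  have hadd : ∀ v v', f (v + v') = f v * f v' := by
    intro v v'
    simp only [f, Prod.fst_add, Prod.snd_add, zmod_pow_add (hc u), zmod_pow_add (hc w)]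
    have hcm : Commute (u ^ v'.1.val) (w ^ v.2.val) := (show Commute u w from hcomm u w).pow_pow _ _
    rw [mul_assoc, ← mul_assoc (u ^ v'.1.val), hcm.eq]
    simp only [mul_assoc]
  have hker : ∀ v, f v = 1 → v = 0 := by
    rintro ⟨i, j⟩ h
    have hj : j = 0 := by
      by_contra hj
      have hwj : w ^ j.val ∈ Subgroup.zpowers u := by
        rw [eq_inv_of_mul_eq_one_right (a := u ^ i.val) h]
        exact inv_mem (Subgroup.pow_mem _ (Subgroup.mem_zpowers u) _)
      rcases sign_two j hj with rfl | rfl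
      · exact hw (by simpa [show (1 : ZMod 3).val = 1 from rfl] using hwj)
      · have h2 := Subgroup.pow_mem _ hwj 2
        rw [← pow_mul, show (2 : ZMod 3).val * 2 = 3 + 1 from rfl, pow_succ, hc w, one_mul] at h2
        exact hw h2
    subst hj
    by_contra hne
    have hi : i ≠ 0 := fun hi => hne (by rw [hi]; rfl)
    simp only [f, ZMod.val_zero, pow_zero, mul_one] at h
    rcases sign_two i hi with rfl | rfl
    · exact hu (by simpa [show (1 : ZMod 3).val = 1 from rfl] using h)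
    · have h3 := hc u
      rw [pow_succ, show u ^ 2 = 1 from h, one_mul] at h3
      exact hu h3
  have hinj : Function.Injective f := fun v v' h => by
    refine sub_eq_zero.mp (hker (v - v') ?_)
    have h2 := hadd (v - v') v'
    rw [sub_add_cancel, h] at h2
    exact mul_right_cancel (h2.symm.trans (one_mul _).symm)
  exact ⟨Equiv.ofBijective f ((Nat.bijective_iff_injective_and_card f).mpr
    ⟨hinj, by rw [hP', Nat.card_eq_fintype_card]; simp⟩), hadd⟩

/-- Every element of order dividing nine is conjugate into `P`. -/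
theorem exists_conj_mem [Fact (Nat.Prime 3)] (P : Sylow 3 G) {g : G} (hg : orderOf g ∣ 9) :
    ∃ y ∈ (P : Subgroup G), IsConj g y := by
  obtain ⟨k, -, hk⟩ := (Nat.dvd_prime_pow Nat.prime_three).mp (show orderOf g ∣ 3 ^ 2 from hg)
  obtain ⟨y, hy⟩ := FrobSylow.exists_conj_ppt (P := P) g
  rw [ppt_of_ppower Nat.prime_three ⟨k, hk⟩] at hy
  exact ⟨y, y.2, hy⟩

section Elementary

variable [IsSimpleGroup G] [Fact (Nat.Prime 3)] {P : Sylow 3 G}

/-- The map induced on coordinates by an element of the normalizer. -/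
theorem exists_act (e : Pl ≃ ↥(P : Subgroup G)) (he : ∀ v v', e (v + v') = e v * e v') {n : G}
    (hn : n ∈ Subgroup.normalizer ((P : Subgroup G) : Set G)) :
    ∃ M : Pl × Pl, ∀ v, n * (e v : G) * n⁻¹ = (e (app M v) : G) := by
  let f : Pl → Pl := fun v => e.symm ⟨n * (e v : G) * n⁻¹, FrobSylow.conj_mem hn (e v).2⟩
  have hf : ∀ v, (e (f v) : G) = n * (e v : G) * n⁻¹ := fun v => by simp [f]
  refine ⟨(f (1, 0), f (0, 1)), fun v => ?_⟩
  rw [← eq_app (f := f) (fun v w => e.injective (Subtype.ext (by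
    rw [he, Subgroup.coe_mul, hf, hf, hf, he, Subgroup.coe_mul]; group))) v, hf]

theorem act_iterate (e : Pl ≃ ↥(P : Subgroup G)) {n : G} {f : Pl → Pl}
    (h : ∀ v, n * (e v : G) * n⁻¹ = (e (f v) : G)) (k : ℕ) (v : Pl) :
    n ^ k * (e v : G) * (n ^ k)⁻¹ = (e (f^[k] v) : G) := by
  induction k with
  | zero => simp
  | succ k ih =>
    rw [Function.iterate_succ_apply', ← h, ← ih, pow_succ']
    group

theorem act_eq (e : Pl ≃ ↥(P : Subgroup G)) {n : G} {f g : Pl → Pl}
    (h : ∀ v, n * (e v : G) * n⁻¹ = (e (f v) : G)) (h' : ∀ v, n * (e v : G) * n⁻¹ = (e (g v) : G))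
    (v : Pl) : f v = g v := e.injective (Subtype.ext ((h v).symm.trans (h' v)))

open scoped _root_.Classical in
/-- With three classes every element of the automiser is an involution. -/
theorem act_involutive (hab : IsMulCommutative P) (e : Pl ≃ ↥(P : Subgroup G))
    (he : ∀ v v', e (v + v') = e v * e v')
    (h3 : 3 ≤ Nat.card {C : ConjClasses G // ∃ g ∈ C.carrier, g ≠ 1 ∧ orderOf g ∣ 9})
    {n : G} (hn : n ∈ Subgroup.normalizer ((P : Subgroup G) : Set G)) {M : Pl × Pl}
    (hM : ∀ v, n * (e v : G) * n⁻¹ = (e (app M v) : G)) (v : Pl) : app M (app M v) = v := by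
  revert v
  by_contra hnot
  have he0 : e 0 = 1 := mul_left_cancel (a := e 0) (by rw [← he, add_zero, mul_one])
  have hinj : ∀ v, app M v = 0 → v = 0 := fun v hv => by
    have h := hM v
    rw [hv, he0, OneMemClass.coe_one, conj_eq_one_iff] at h
    exact e.injective (by rw [he0]; exact Subtype.ext h)
  obtain ⟨j, hj3, hj⟩ := exists_exponent P hab hn
  have hjv : ∀ v, (app M)^[j] v = v := fun v =>
    e.injective (Subtype.ext ((act_iterate e hM j v).symm.trans (hj _ (e v).2)))
  have h8 : ∀ v, (app M)^[8] v = v := by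
    intro v
    have h1 : Function.IsPeriodicPt (app M) 24 v := iterate_exponent M hinj v
    have h2 : Function.IsPeriodicPt (app M) j v := hjv v
    have hd : Nat.gcd 24 j ∣ 8 := by
      have hcop : Nat.Coprime (Nat.gcd 24 j) 3 :=
        ((Nat.prime_three.coprime_iff_not_dvd.mpr fun h => hj3 (h.trans (Nat.gcd_dvd_right 24 j)))).symm
      exact hcop.dvd_of_dvd_mul_left (show Nat.gcd 24 j ∣ 3 * 8 from Nat.gcd_dvd_left 24 j)
    exact (h1.gcd h2).trans_dvd hd
  obtain ⟨v₀, -, horb⟩ := two_orbits M h8 hnot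
  have hsub : {C : ConjClasses G | ∃ g ∈ C.carrier, g ≠ 1 ∧ orderOf g ∣ 9} ⊆
      {ConjClasses.mk (e (1, 0) : G), ConjClasses.mk (e v₀ : G)} := by
    rintro C ⟨g, hg, hg1, hg9⟩
    obtain ⟨y, hy, hgy⟩ := exists_conj_mem P hg9
    have hC : C = ConjClasses.mk y := by
      rw [← ConjClasses.mem_carrier_iff_mk_eq.mp hg]
      exact ConjClasses.mk_eq_mk_iff_isConj.mpr hgy
    obtain ⟨v, hv⟩ := e.surjective ⟨y, hy⟩
    have hv' : y = (e v : G) := by rw [hv]
    have hv0 : v ≠ 0 := fun h => hg1 (by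
      rw [hv', h, he0, OneMemClass.coe_one] at hgy
      exact isConj_one_left.mp hgy)
    obtain ⟨k, hk | hk⟩ := horb v hv0
    · left
      rw [hC, hv', ← hk, ← act_iterate e hM]
      exact (ConjClasses.mk_eq_mk_iff_isConj.mpr (isConj_iff.mpr ⟨_, rfl⟩)).symm
    · right
      rw [Set.mem_singleton_iff, hC, hv', ← hk, ← act_iterate e hM]
      exact (ConjClasses.mk_eq_mk_iff_isConj.mpr (isConj_iff.mpr ⟨_, rfl⟩)).symm
  have hle := Set.ncard_le_ncard hsub (Set.toFinite _)
  have h2 : ({ConjClasses.mk (e (1, 0) : G), ConjClasses.mk (e v₀ : G)} : Set (ConjClasses G)).ncard ≤ 2 :=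
    (Set.ncard_insert_le _ _).trans (by rw [Set.ncard_singleton])
  rw [← Nat.card_coe_set_eq] at hle
  exact absurd (h3.trans (hle.trans h2)) (by norm_num)

/-- Elementary abelian Sylow subgroups: the automiser is a group of sign changes. -/
theorem elementary_cases (hna : ¬ IsMulCommutative G) (hab : IsMulCommutative P) (hP : Nat.card P = 9)
    (hexp : ∀ y ∈ (P : Subgroup G), y ^ 3 = 1)
    (h3 : 3 ≤ Nat.card {C : ConjClasses G // ∃ g ∈ C.carrier, g ≠ 1 ∧ orderOf g ∣ 9}) :
    (∀ n ∈ Subgroup.normalizer ((P : Subgroup G) : Set G),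
      (∀ y ∈ (P : Subgroup G), n * y * n⁻¹ = y) ∨ (∀ y ∈ (P : Subgroup G), n * y * n⁻¹ = y⁻¹)) ∨
    Nonempty (KleinData P) := by
  classical
  obtain ⟨e, he⟩ := exists_coords P hP hab hexp
  have he0 : e 0 = 1 := mul_left_cancel (a := e 0) (by rw [← he, add_zero, mul_one])
  have heneg : ∀ v, e (-v) = (e v)⁻¹ := fun v =>
    (inv_eq_of_mul_eq_one_right (by rw [← he, add_neg_cancel, he0])).symm
  by_cases hall : ∀ n ∈ Subgroup.normalizer ((P : Subgroup G) : Set G),
      (∀ y ∈ (P : Subgroup G), n * y * n⁻¹ = y) ∨ (∀ y ∈ (P : Subgroup G), n * y * n⁻¹ = y⁻¹)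
  · exact Or.inl hall
  right
  push Not at hall
  obtain ⟨n₀, hn₀, hA, hB⟩ := hall
  obtain ⟨M, hM⟩ := exists_act e he hn₀
  rcases involution_cases M (act_involutive hab e he h3 hn₀ hM) with hid | hneg | ⟨u, w, hu, hw, huw⟩
  · obtain ⟨y, hy, hne⟩ := hA
    obtain ⟨v, hv⟩ := e.surjective ⟨y, hy⟩
    exact absurd (by rw [show y = (e v : G) by rw [hv], hM, hid]) hne
  · obtain ⟨y, hy, hne⟩ := hB
    obtain ⟨v, hv⟩ := e.surjective ⟨y, hy⟩
    exact absurd (by rw [show y = (e v : G) by rw [hv], hM, hneg, heneg]; rfl) hne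
  -- coordinates along the eigenlines
  have hbij : Function.Bijective (app (u, w)) := by
    refine Finite.injective_iff_bijective.mp fun x y hxy => sub_eq_zero.mp (huw _ ?_)
    have h := app_add (u, w) (x - y) y
    rw [sub_add_cancel, hxy] at h
    exact (add_eq_right.mp h.symm)
  set e' : Pl ≃ ↥(P : Subgroup G) := (Equiv.ofBijective _ hbij).trans e with he'
  have heapp : ∀ v, e' v = e (app (u, w) v) := fun v => rfl
  have he'add : ∀ v v', e' (v + v') = e' v * e' v' := fun v v' => by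
    rw [heapp, heapp, heapp, app_add, he]
  have hflip : ∀ v, n₀ * (e' v : G) * n₀⁻¹ = (e' (flipSnd v) : G) := fun v => by
    rw [heapp, heapp, hM, app_comp_app, hu, hw, app_flipSnd]
  obtain ⟨M₀, hM₀⟩ := exists_act e' he'add hn₀
  have hnorm : ∀ n ∈ Subgroup.normalizer ((P : Subgroup G) : Set G),
      ∃ s t : ZMod 3, s ≠ 0 ∧ t ≠ 0 ∧ ∀ v : Pl, n * (e' v : G) * n⁻¹ = (e' (s * v.1, t * v.2) : G) := by
    intro n hn
    obtain ⟨S, hS⟩ := exists_act e' he'add hn
    obtain ⟨T, hT⟩ := exists_act e' he'add (mul_mem hn hn₀)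
    have hS2 := act_involutive hab e' he'add h3 hn hS
    have hT2 := act_involutive hab e' he'add h3 (mul_mem hn hn₀) hT
    have hTe : ∀ v, app T v = app S (flipSnd v) := fun v =>
      act_eq e' (g := fun v => app S (flipSnd v)) hT (fun v => by
        rw [← hS, ← hflip]
        group) v
    have hSfS : ∀ v, app S (flipSnd (app S v)) = flipSnd v := fun v => by
      have h := hT2 (app S v)
      simp only [hTe] at h
      have hff : ∀ x, flipSnd (flipSnd x) = x := fun x => by simp [flipSnd]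
      have h' := congrArg (fun x => flipSnd (app S x)) h
      simp only [hS2, hff] at h'
      exact h'
    have hcomm : ∀ v, app S (flipSnd v) = flipSnd (app S v) := fun v => by
      have h := hSfS (app S v)
      rwa [hS2] at h
    obtain ⟨s, t, hs, ht, hst⟩ := commute_flipSnd S hcomm hS2
    exact ⟨s, t, hs, ht, fun v => by rw [hS, hst]⟩
  obtain ⟨n₁, hn₁, t₁, ht₁, hn₁e⟩ : ∃ n₁ ∈ Subgroup.normalizer ((P : Subgroup G) : Set G),
      ∃ t₁ : ZMod 3, t₁ ≠ 0 ∧ ∀ v : Pl, n₁ * (e' v : G) * n₁⁻¹ = (e' ((2 : ZMod 3) * v.1, t₁ * v.2) : G) := by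
    by_contra hno
    push Not at hno
    refine no_fixed hna P hab (e' ((1 : ZMod 3), (0 : ZMod 3))).2 (fun h1 => ?_) fun n hn => ?_
    · have h0 : e' 0 = 1 := mul_left_cancel (a := e' 0) (by rw [← he'add, add_zero, mul_one])
      have := e'.injective (Subtype.ext (h1.trans (OneMemClass.coe_one (P : Subgroup G)).symm) |>.trans h0.symm)
      exact one_ne' (congrArg Prod.fst this)
    · obtain ⟨s, t, hs, ht, hst⟩ := hnorm n hn
      rcases sign_two s hs with rfl | rfl
      · rw [hst]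
        simp
      · obtain ⟨v, hv⟩ := hno n hn t ht
        exact absurd (hst v) hv
  refine ⟨⟨e', he'add, hnorm, fun s t hs ht => ?_⟩⟩
  obtain ⟨i, j, hij⟩ := sign_products t₁ s t ht₁ hs ht
  refine ⟨(if i then n₁ else 1) * (if j then n₀ else 1), ?_, fun v => ?_⟩
  · exact mul_mem (by split_ifs; exacts [hn₁, one_mem _]) (by split_ifs; exacts [hn₀, one_mem _])
  · rw [hij v]
    cases i <;> cases j <;> simp only [Bool.false_eq_true, if_true, if_false, id_eq]
    · simp
    · simpa using hflip v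
    · simpa using hn₁e v
    · rw [← hn₁e, ← hflip]
      group

end Elementary

/-- A cyclic Sylow subgroup of order nine. -/
theorem cyclic_case [Fact (Nat.Prime 3)] (P : Sylow 3 G) (hP : Nat.card P = 9) (hab : IsMulCommutative P)
    {g : G} (hg : g ∈ (P : Subgroup G)) (hg9 : orderOf g = 9) :
    ∀ n ∈ Subgroup.normalizer ((P : Subgroup G) : Set G),
      (∀ y ∈ (P : Subgroup G), n * y * n⁻¹ = y) ∨ (∀ y ∈ (P : Subgroup G), n * y * n⁻¹ = y⁻¹) := by
  intro n hn
  have hz : Subgroup.zpowers g = (P : Subgroup G) :=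
    Subgroup.eq_of_le_of_card_ge (Subgroup.zpowers_le.mpr hg)
      (by rw [Nat.card_zpowers, hg9, show Nat.card ↥(P : Subgroup G) = 9 from hP])
  obtain ⟨i, hi⟩ := Subgroup.mem_zpowers_iff.mp (hz ▸ FrobSylow.conj_mem hn hg : n * g * n⁻¹ ∈ Subgroup.zpowers g)
  obtain ⟨j, hj3, hj⟩ := exists_exponent P hab hn
  have hit : ∀ k : ℕ, n ^ k * g * (n ^ k)⁻¹ = g ^ (i ^ k) := by
    intro k
    induction k with
    | zero => simp
    | succ k ih =>
      calc n ^ (k + 1) * g * (n ^ (k + 1))⁻¹ = n ^ k * (n * g * n⁻¹) * (n ^ k)⁻¹ := by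
            rw [pow_succ]; group
        _ = (n ^ k * g * (n ^ k)⁻¹) ^ i := by rw [← hi, conj_zpow]
        _ = _ := by rw [ih, ← zpow_mul, pow_succ]
  have h1 : g ^ (i ^ j - 1 : ℤ) = 1 := by
    rw [zpow_sub, ← hit j, hj g hg, zpow_one, mul_inv_cancel]
  have h9 : (9 : ℤ) ∣ i ^ j - 1 := by
    have := orderOf_dvd_iff_zpow_eq_one.mpr h1
    rwa [hg9] at this
  have hc : (i : ZMod 9) ^ j = 1 := by
    have : ((i ^ j - 1 : ℤ) : ZMod 9) = 0 := (ZMod.intCast_zmod_eq_zero_iff_dvd _ 9).mpr h9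
    push_cast at this
    exact sub_eq_zero.mp this
  have hcases : ∀ x : ZMod 9, x = 1 ∨ x = -1 ∨ (x ^ 6 = 1 ∧ ¬ x ^ 2 = 1) ∨ x ^ 2 = 0 := by decide
  have hsq : (i : ZMod 9) = 1 ∨ (i : ZMod 9) = -1 := by
    rcases hcases (i : ZMod 9) with h | h | ⟨h6, h2⟩ | h0
    · exact Or.inl h
    · exact Or.inr h
    · exfalso
      refine h2 ?_
      have hd : Nat.gcd 6 j ∣ 2 := by
        have hcop : Nat.Coprime (Nat.gcd 6 j) 3 :=
          ((Nat.prime_three.coprime_iff_not_dvd.mpr fun h => hj3 (h.trans (Nat.gcd_dvd_right 6 j)))).symm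
        exact hcop.dvd_of_dvd_mul_left (show Nat.gcd 6 j ∣ 3 * 2 from Nat.gcd_dvd_left 6 j)
      obtain ⟨c, hc'⟩ := hd
      conv_lhs => rw [hc']
      rw [pow_mul, pow_gcd_eq_one.mpr ⟨h6, hc⟩, one_pow]
    · exfalso
      rcases j with _ | _ | j
      · exact hj3 (dvd_zero 3)
      · rw [pow_one] at hc
        rw [hc] at h0
        exact absurd h0 (by decide)
      · rw [show j + 1 + 1 = 2 + j by omega, pow_add, h0, zero_mul] at hc
        exact absurd hc (by decide)
  have hconj : ∀ z : ℤ, n * g ^ z * n⁻¹ = (g ^ i) ^ z := fun z => by rw [hi, conj_zpow]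
  rcases hsq with h | h
  · left
    have hgi : g ^ i = g := by
      have : (9 : ℤ) ∣ i - 1 := (ZMod.intCast_zmod_eq_zero_iff_dvd _ 9).mp (by push_cast; rw [h, sub_self])
      have := orderOf_dvd_iff_zpow_eq_one.mp (show (orderOf g : ℤ) ∣ i - 1 by rw [hg9]; exact this)
      rw [zpow_sub, zpow_one, mul_inv_eq_one] at this
      exact this
    intro y hy
    obtain ⟨z, rfl⟩ := Subgroup.mem_zpowers_iff.mp (hz ▸ hy : y ∈ Subgroup.zpowers g)
    rw [hconj, hgi]
  · right
    have hgi : g ^ i = g⁻¹ := by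
      have : (9 : ℤ) ∣ i + 1 := (ZMod.intCast_zmod_eq_zero_iff_dvd _ 9).mp (by push_cast; rw [h, neg_add_cancel])
      have := orderOf_dvd_iff_zpow_eq_one.mp (show (orderOf g : ℤ) ∣ i + 1 by rw [hg9]; exact this)
      rw [zpow_add, zpow_one] at this
      exact eq_inv_of_mul_eq_one_left this
    intro y hy
    obtain ⟨z, rfl⟩ := Subgroup.mem_zpowers_iff.mp (hz ▸ hy : y ∈ Subgroup.zpowers g)
    rw [hconj, hgi, inv_zpow]

/-- A group with a Sylow three-subgroup of order nine inverted by its normalizer or fixed. -/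
theorem inverted_of_hinv [IsSimpleGroup G] (hna : ¬ IsMulCommutative G) [Fact (Nat.Prime 3)]
    {q a b : ℕ} (hq : q.Prime) (hq2 : q ≠ 2) (hq3 : q ≠ 3) (hcard : Nat.card G = 9 * 2 ^ a * q ^ b)
    (P : Sylow 3 G) (hP : Nat.card P = 9) (hab : IsMulCommutative P)
    (hinv : ∀ n ∈ Subgroup.normalizer ((P : Subgroup G) : Set G),
      (∀ y ∈ (P : Subgroup G), n * y * n⁻¹ = y) ∨ (∀ y ∈ (P : Subgroup G), n * y * n⁻¹ = y⁻¹)) :
    Concl G := by
  refine inverted_main hna hq hq2 hq3 hcard P hP hab hinv ?_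
  by_contra hno
  obtain ⟨y, hy, hy1⟩ : ∃ y ∈ (P : Subgroup G), y ≠ 1 := by
    by_contra h
    push Not at h
    rw [(Subgroup.eq_bot_iff_forall _).mpr h, Subgroup.card_bot] at hP
    omega
  exact no_fixed hna P hab hy hy1 fun n hn =>
    ((hinv n hn).resolve_right fun h => hno ⟨n, hn, h⟩) y hy

theorem sylow_card {q a b : ℕ} (hq : q.Prime) (hq3 : q ≠ 3) (hcard : Nat.card G = 9 * 2 ^ a * q ^ b)
    [Fact (Nat.Prime 3)] (P : Sylow 3 G) : Nat.card P = 9 := by
  have h2 : ¬ 3 ∣ 2 ^ a := fun h => by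
    have := Nat.prime_three.dvd_of_dvd_pow h
    omega
  have h3 : ¬ 3 ∣ q ^ b := fun h =>
    hq3 ((Nat.prime_dvd_prime_iff_eq Nat.prime_three hq).mp (Nat.prime_three.dvd_of_dvd_pow h)).symm
  rw [P.card_eq_multiplicity, hcard, Nat.factorization_mul (by positivity) (pow_ne_zero _ hq.ne_zero),
    Finsupp.add_apply, Nat.factorization_mul (by norm_num) (by positivity), Finsupp.add_apply,
    Nat.factorization_eq_zero_of_not_dvd h2, Nat.factorization_eq_zero_of_not_dvd h3,
    show (9 : ℕ) = 3 ^ 2 from rfl, Nat.prime_three.factorization_pow, Finsupp.single_eq_same]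

/-- At least three classes of non-trivial three-elements. -/
theorem three_classes_main [IsSimpleGroup G] (hna : ¬ IsMulCommutative G) {q a b : ℕ} (hq : q.Prime)
    (hq2 : q ≠ 2) (hq3 : q ≠ 3) (hcard : Nat.card G = 9 * 2 ^ a * q ^ b)
    (h3 : 3 ≤ Nat.card {C : ConjClasses G // ∃ g ∈ C.carrier, g ≠ 1 ∧ orderOf g ∣ 9}) : Concl G := by
  haveI : Fact (Nat.Prime 3) := ⟨Nat.prime_three⟩
  obtain ⟨P⟩ := (Sylow.nonempty : Nonempty (Sylow 3 G))
  have hP := sylow_card hq hq3 hcard P
  have hab : IsMulCommutative P :=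
    ⟨⟨IsPGroup.commutative_of_card_eq_prime_sq (p := 3)
      (show Nat.card ↥(P : Subgroup G) = 3 ^ 2 by rw [show Nat.card ↥(P : Subgroup G) = 9 from hP]; norm_num)⟩⟩
  by_cases hexp : ∀ y ∈ (P : Subgroup G), y ^ 3 = 1
  · rcases elementary_cases hna hab hP hexp h3 with h | ⟨⟨K⟩⟩
    · exact inverted_of_hinv hna hq hq2 hq3 hcard P hP hab h
    · exact klein_main hna hq hq2 hq3 hcard K
  · push Not at hexp
    obtain ⟨g, hg, hg3⟩ := hexp
    have hd : orderOf g ∣ 3 ^ 2 := by
      have := Subgroup.orderOf_dvd_natCard _ hg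
      rw [show Nat.card ↥(P : Subgroup G) = 9 from hP] at this
      exact this
    obtain ⟨k, hk, hgk⟩ := (Nat.dvd_prime_pow Nat.prime_three).mp hd
    have hg9 : orderOf g = 9 := by
      interval_cases k
      · have h1 : g = 1 := orderOf_eq_one_iff.mp (by simpa using hgk)
        exact absurd (by rw [h1, one_pow]) hg3
      · exact absurd (orderOf_dvd_iff_pow_eq_one.mp (by rw [hgk, pow_one])) hg3
      · exact hgk
    exact inverted_of_hinv hna hq hq2 hq3 hcard P hP hab (cyclic_case P hP hab hg hg9)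

end Cfsg.Agent.Char.OrderNine
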